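import Mathlib.AlgebraicGeometry.Sites.Fpqc
import Mathlib.CategoryTheory.Comma.Over.Pullback
import Mathlib.CategoryTheory.Limits.Constructions.Over.Connected

/-!
# Descent of morphisms along fpqc coverings
-/

open CategoryTheory Limits AlgebraicGeometry

universe u

namespace Groth.Agent.FpqcDescLib

variable {X Y Z : Scheme.{u}}

/-- A single map forming an fpqc covering. -/
def IsCovering (q : Z ⟶ Y) : Prop := Presieve.singleton q ∈ Scheme.fpqcPrecoverage Y

theorem isCovering_of_flat (q : Z ⟶ Y) [Surjective q] [Flat q]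
    (h : ∀ V : Y.Opens, IsAffineOpen V → ∃ W : Z.Opens, IsCompact (W : Set Z) ∧ q.base '' (W : Set Z) = (V : Set Y)) :
    IsCovering q := by
  refine ⟨?_, ?_⟩
  · have : QuasiCompactCover (PreZeroHypercover.singleton.{u} q) := ⟨fun {V} hV => by
      obtain ⟨W, hW, hWV⟩ := h V hV
      exact ⟨Set.univ, Set.finite_univ, fun _ _ => W, fun _ _ => hW, by rw [← hWV]; ext y; simp only [Set.mem_iUnion]; exact ⟨fun ⟨_, _, hy⟩ => hy, fun hy => ⟨⟨⟩, trivial, hy⟩⟩⟩⟩
    have h' := (Scheme.presieve₀_mem_qcPrecoverage_iff (E := PreZeroHypercover.singleton q)).mpr this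
    rwa [PreZeroHypercover.presieve₀_singleton] at h'
  · rw [← Presieve.ofArrows_pUnit.{0}]
    exact (q.cover (P := @Flat) ‹_›).mem₀

theorem isCovering_of_lfp (q : Z ⟶ Y) [Surjective q] [Flat q] [LocallyOfFinitePresentation q] :
    IsCovering q :=
  Scheme.fppfPrecoverage_le_fpqcPrecoverage _ q.singleton_mem_fppfPrecoverage

theorem isCovering_of_quasiCompact (q : Z ⟶ Y) [Surjective q] [Flat q] [QuasiCompact q] : IsCovering q :=
  q.singleton_mem_fpqcPrecoverage

theorem IsCovering.effectiveEpi {q : Z ⟶ Y} (h : IsCovering q) : EffectiveEpi q := by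
  rw [← Sieve.effectiveEpimorphic_singleton,
    Presieve.EffectiveEpimorphic.iff_forall_isSheafFor_yoneda]
  intro W
  exact (GrothendieckTopology.Subcanonical.isSheaf_of_isRepresentable _).isSheafFor _
    (Precoverage.generate_mem_toGrothendieck h)

theorem IsCovering.pullback {q : Z ⟶ Y} (h : IsCovering q) {Y' Z' : Scheme.{u}} (g : Y' ⟶ Y)
    (q' : Z' ⟶ Y') (g' : Z' ⟶ Z) (H : IsPullback q' g' g q) : IsCovering q' := by
  rw [IsCovering, ← Presieve.ofArrows_pUnit.{0}] at h ⊢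
  exact Precoverage.mem_coverings_of_isPullback _ h g _ (fun _ => g') fun _ => H

/-- A morphism through which an fpqc covering factors. -/
def Covers (p : X ⟶ Y) : Prop := ∃ (Z : Scheme.{u}) (r : Z ⟶ X), IsCovering (r ≫ p)

theorem covers_of_isCovering {p : X ⟶ Y} (h : IsCovering p) : Covers p :=
  ⟨X, 𝟙 X, by rwa [Category.id_comp]⟩

theorem covers_of_hcov (p : X ⟶ Y)
    (h : ∃ (Z : Scheme.{u}) (q : Z ⟶ Y) (r : Z ⟶ X), r ≫ p = q ∧ Surjective q ∧ Flat q ∧
      ∀ V : Y.Opens, IsAffineOpen V → ∃ W : Z.Opens, IsCompact (W : Set Z) ∧ q.base '' (W : Set Z) = (V : Set Y)) :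
    Covers p := by
  obtain ⟨Z, q, r, hr, _, _, hq⟩ := h
  exact ⟨Z, r, hr ▸ isCovering_of_flat q hq⟩

theorem Covers.pullback {p : X ⟶ Y} (h : Covers p) {Y' X' : Scheme.{u}} (g : Y' ⟶ Y)
    (p' : X' ⟶ Y') (g' : X' ⟶ X) (H : IsPullback p' g' g p) : Covers p' := by
  obtain ⟨Z, r, hq⟩ := h
  refine ⟨_, H.lift (pullback.fst g (r ≫ p)) (pullback.snd g (r ≫ p) ≫ r)
    (by rw [Category.assoc, pullback.condition]), ?_⟩
  rw [H.lift_fst]
  exact hq.pullback g _ _ (IsPullback.of_hasPullback _ _)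

theorem Covers.epi {p : X ⟶ Y} (h : Covers p) : Epi p := by
  obtain ⟨Z, r, hq⟩ := h
  have := hq.effectiveEpi
  exact epi_of_epi r p

/-- Descent of morphisms along a morphism through which a covering factors. -/
theorem Covers.desc {p : X ⟶ Y} (h : Covers p) {W : Scheme.{u}} (f : X ⟶ W)
    (hf : ∀ (T : Scheme.{u}) (a b : T ⟶ X), a ≫ p = b ≫ p → a ≫ f = b ≫ f) :
    ∃! g : Y ⟶ W, p ≫ g = f := by
  have hepi := h.epi
  obtain ⟨Z, r, hq⟩ := h
  have := hq.effectiveEpi
  let g : Y ⟶ W := EffectiveEpi.desc (r ≫ p) (r ≫ f) fun a b e => by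
    rw [← Category.assoc, ← Category.assoc]
    exact hf _ _ _ (by simpa using e)
  have hg : (r ≫ p) ≫ g = r ≫ f := EffectiveEpi.fac _ _ _
  refine ⟨g, ?_, fun g' hg' => ?_⟩
  · have := (hq.pullback p _ _ (IsPullback.of_hasPullback p (r ≫ p))).effectiveEpi
    show p ≫ g = f
    rw [← cancel_epi (pullback.fst p (r ≫ p)), ← Category.assoc, pullback.condition, Category.assoc, hg,
      ← Category.assoc]
    exact hf _ _ _ (by rw [Category.assoc, ← pullback.condition])
  · show g' = g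
    rw [← cancel_epi (r ≫ p), hg, Category.assoc, hg']

variable {S : Scheme.{u}}

theorem Covers.over_epi {P Q : Over S} {p : P ⟶ Q} (h : Covers p.left) : Epi p := by
  have := h.epi
  exact Over.epi_of_epi_left _

/-- Descent of morphisms over a base. -/
theorem Covers.over_desc {P Q K : Over S} {p : P ⟶ Q} (h : Covers p.left) (f : P ⟶ K)
    (hf : ∀ (T : Over S) (a b : T ⟶ P), a ≫ p = b ≫ p → a ≫ f = b ≫ f) :
    ∃! g : Q ⟶ K, p ≫ g = f := by
  have := h.over_epi
  have := h.epi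
  obtain ⟨g, hg, -⟩ := h.desc f.left fun T a b e => by
    have e' : b ≫ P.hom = a ≫ P.hom := by rw [← Over.w p, reassoc_of% e]
    exact congrArg CommaMorphism.left (hf (Over.mk (a ≫ P.hom)) (Over.homMk a rfl) (Over.homMk b e')
      (Over.OverMorphism.ext e))
  refine ⟨Over.homMk g ?_, Over.OverMorphism.ext hg, fun g' hg' => ?_⟩
  · rw [← cancel_epi p.left, reassoc_of% hg, Over.w f, Over.w p]
  · rw [← cancel_epi p, hg']
    exact Over.OverMorphism.ext hg.symm

theorem Covers.over_pullback {P Q P' Q' : Over S} {p : P ⟶ Q} (h : Covers p.left)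
    (g : Q' ⟶ Q) (p' : P' ⟶ Q') (g' : P' ⟶ P) (H : IsPullback p' g' g p) : Covers p'.left :=
  h.pullback g.left p'.left g'.left (H.map (Over.forget S))

end Groth.Agent.FpqcDescLib
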