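import Groth.Agent.FpqcDescLib.Group
import Groth.Agent.AlgSpLib.Descends2

/-!
# Closed immersions descend along fpqc coverings
-/

open CategoryTheory Limits AlgebraicGeometry

universe u

namespace Groth.Agent.FpqcDescLib

variable {X Y Z : Scheme.{u}}

theorem IsCovering.comp {q : Z ⟶ Y} {q' : X ⟶ Z} (h' : IsCovering q') (h : IsCovering q) :
    IsCovering (q' ≫ q) := by
  rw [IsCovering, ← Presieve.ofArrows_pUnit.{0}] at h h' ⊢
  have := Precoverage.comp_mem_coverings (σ := fun _ : PUnit.{1} => PUnit.{1}) (fun _ : PUnit.{1} => q) h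
    (fun _ _ => q') fun _ => h'
  convert this using 1
  refine le_antisymm (fun T f hf => ?_) fun T f hf => ?_
  · obtain ⟨⟩ := hf
    exact Presieve.ofArrows.mk (Sigma.mk PUnit.unit PUnit.unit)
  · obtain ⟨i⟩ := hf
    exact Presieve.ofArrows.mk PUnit.unit

theorem Covers.comp {p : X ⟶ Y} {p' : Y ⟶ Z} (h : Covers p) (h' : Covers p') : Covers (p ≫ p') := by
  obtain ⟨Z₂, r₂, hq₂⟩ := h'
  obtain ⟨Z₁, r₁, hq₁⟩ := h.pullback r₂ _ _ (IsPullback.of_hasPullback r₂ p)
  refine ⟨Z₁, r₁ ≫ pullback.snd r₂ p, ?_⟩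
  have e : (r₁ ≫ pullback.snd r₂ p) ≫ p ≫ p' = (r₁ ≫ pullback.fst r₂ p) ≫ r₂ ≫ p' := by
    simp only [Category.assoc, pullback.condition_assoc]
  rw [e]
  exact hq₁.comp hq₂

theorem IsCovering.exists_compact {q : Z ⟶ Y} (h : IsCovering q) {V : Y.Opens} (hV : IsAffineOpen V) :
    ∃ W : Z.Opens, IsCompact (W : Set Z) ∧ q.base '' (W : Set Z) = (V : Set Y) := by
  have h1 : Presieve.singleton q ∈ Scheme.qcPrecoverage Y := h.1
  rw [← PreZeroHypercover.presieve₀_singleton.{u}, Scheme.presieve₀_mem_qcPrecoverage_iff] at h1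
  exact IsCompactOpenCovered.iff_of_unique.mp (hV.isCompactOpenCovered (PreZeroHypercover.singleton.{u} q))

/-- A property that is local on the target and fpqc descends descends along morphisms through which coverings factor. -/
theorem Covers.descends (P : MorphismProperty Scheme.{u}) [P.IsStableUnderBaseChange] [IsZariskiLocalAtTarget P]
    [P.DescendsAlong (@Surjective ⊓ @Flat ⊓ @QuasiCompact)] {p : X ⟶ Y} (h : Covers p) {A B : Scheme.{u}} (i : B ⟶ Y)
    (i' : A ⟶ X) (g : A ⟶ B) (H : IsPullback i' g p i) (hi' : P i') : P i := by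
  obtain ⟨Z, r, hq⟩ := h
  have hZ : P (pullback.fst (r ≫ p) i) :=
    MorphismProperty.of_isPullback (P := P)
      (IsPullback.of_right' (IsPullback.of_hasPullback (r ≫ p) i).flip H.flip) hi'
  refine IsZariskiLocalAtTarget.of_forall_exists_morphismRestrict fun y => ?_
  obtain ⟨V, hV, hyV, -⟩ := exists_isAffineOpen_mem_and_subset (X := Y) (x := y) (U := ⊤) trivial
  refine ⟨V, hyV, ?_⟩
  obtain ⟨W, hW, hWV⟩ := hq.exists_compact hV
  have hWle : W ≤ (r ≫ p) ⁻¹ᵁ V := fun w hw => show (r ≫ p).base w ∈ V from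
    SetLike.mem_coe.mp (hWV ▸ Set.mem_image_of_mem _ hw)
  let q : (W : Scheme.{u}) ⟶ V := (r ≫ p).resLE V W hWle
  have hq' : (@Surjective ⊓ @Flat ⊓ @QuasiCompact : MorphismProperty Scheme.{u}) q := by
    refine ⟨⟨⟨fun v => ?_⟩, ?_⟩, ?_⟩
    · have hv : v.1 ∈ (r ≫ p).base '' (W : Set Z) := by rw [hWV]; exact v.2
      obtain ⟨w, hw, hwv⟩ := hv
      exact ⟨⟨w, hw⟩, Subtype.ext ((congrArg (fun f => f.base (⟨w, hw⟩ : W)) ((r ≫ p).resLE_comp_ι hWle)).trans hwv)⟩
    · have : Flat (r ≫ p) := by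
        have := hq.2
        rw [← Presieve.ofArrows_pUnit.{0}, Scheme.ofArrows_mem_precoverage_iff] at this
        exact this.2 PUnit.unit
      exact inferInstanceAs (Flat ((r ≫ p).resLE V W hWle))
    · have : IsAffine V := hV
      have : CompactSpace (W : Scheme.{u}) := isCompact_iff_compactSpace.mp hW
      exact quasiCompact_of_compactSpace q
  apply MorphismProperty.of_pullback_fst_of_descendsAlong (P := P)
    (Q := @Surjective ⊓ @Flat ⊓ @QuasiCompact) (g := i ∣_ V) hq'
  have H1 : IsPullback (pullback.fst q (i ∣_ V)) (pullback.snd q (i ∣_ V) ≫ (i ⁻¹ᵁ V).ι) (q ≫ V.ι) i :=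
    ((IsPullback.of_hasPullback q (i ∣_ V)).flip.paste_horiz (isPullback_morphismRestrict i V).flip).flip
  rw [show q ≫ V.ι = W.ι ≫ r ≫ p from (r ≫ p).resLE_comp_ι hWle] at H1
  exact MorphismProperty.of_isPullback (P := P)
    (IsPullback.of_right' H1.flip (IsPullback.of_hasPullback (r ≫ p) i).flip) hZ

/-- Closed immersions descend along morphisms through which coverings factor. -/
theorem Covers.isClosedImmersion {p : X ⟶ Y} (h : Covers p) {A B : Scheme.{u}} (i : B ⟶ Y)
    (i' : A ⟶ X) (g : A ⟶ B) (H : IsPullback i' g p i) [hi' : IsClosedImmersion i'] : IsClosedImmersion i :=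
  h.descends @IsClosedImmersion i i' g H hi'

theorem isCovering_of_isOpenMap (q : Z ⟶ Y) [Surjective q] [Flat q] (h : IsOpenMap q.base) : IsCovering q :=
  isCovering_of_flat q fun V hV => by
    have : QuasiCompactCover (Scheme.Hom.cover.{u, u} q (P := ⊤) trivial).toPreZeroHypercover :=
      QuasiCompactCover.of_isOpenMap fun _ => h
    exact IsCompactOpenCovered.iff_of_unique.mp (hV.isCompactOpenCovered (Scheme.Hom.cover.{u, u} q (P := ⊤) trivial).toPreZeroHypercover)

end Groth.Agent.FpqcDescLib
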