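import Groth.Agent.FpqcDescLib.Basic
import Groth.Prelude.Def_AlgGrp
import Mathlib.CategoryTheory.Monoidal.Cartesian.Grp

/-!
# Quotients of group objects by normal subgroups
-/

open CategoryTheory Limits MonoidalCategory CartesianMonoidalCategory MonObj GrpObj AlgebraicGeometry

universe u

namespace Groth.Agent.FpqcDescLib

variable {S : Scheme.{u}}

section

variable {G Q : Over S}

theorem isPullback_whiskerRight (p : G ⟶ Q) (X : Over S) :
    IsPullback (p ▷ X) (fst G X) (fst Q X) p := by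
  refine IsPullback.of_isLimit' ⟨by simp⟩ (PullbackCone.IsLimit.mk _
    (fun s => lift s.snd (s.fst ≫ snd Q X)) ?_ (fun s => by simp) fun s m h1 h2 => ?_)
  · intro s
    apply CartesianMonoidalCategory.hom_ext
    · simp [s.condition]
    · simp
  · apply CartesianMonoidalCategory.hom_ext
    · simpa using h2
    · simpa [Category.assoc] using congrArg (· ≫ snd Q X) h1

theorem isPullback_whiskerLeft (p : G ⟶ Q) (X : Over S) :
    IsPullback (X ◁ p) (snd X G) (snd X Q) p := by
  refine IsPullback.of_isLimit' ⟨by simp⟩ (PullbackCone.IsLimit.mk _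
    (fun s => lift (s.fst ≫ fst X Q) s.snd) ?_ (fun s => by simp) fun s m h1 h2 => ?_)
  · intro s
    apply CartesianMonoidalCategory.hom_ext
    · simp
    · simp [s.condition]
  · apply CartesianMonoidalCategory.hom_ext
    · simpa [Category.assoc] using congrArg (· ≫ fst X Q) h1
    · simpa using h2

theorem covers_whiskerRight {p : G ⟶ Q} (hp : Covers p.left) (X : Over S) : Covers (p ▷ X).left :=
  hp.over_pullback _ _ _ (isPullback_whiskerRight p X)

theorem covers_whiskerLeft {p : G ⟶ Q} (hp : Covers p.left) (X : Over S) : Covers (X ◁ p).left :=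
  hp.over_pullback _ _ _ (isPullback_whiskerLeft p X)

end

variable {H G Q : Over S} [GrpObj H] [GrpObj G]

/-- The fibres of a map are the left cosets of a subgroup. -/
def IsCosetMap (u : H ⟶ G) (p : G ⟶ Q) : Prop :=
  ∀ (T : Over S) (a b : T ⟶ G), a ≫ p = b ≫ p ↔ ∃ h : T ⟶ H, b = a * (h ≫ u)

theorem isCosetMap_of_isPullback {u : H ⟶ G} {p : G ⟶ Q}
    (hsq : IsPullback (fst G H) ((G ◁ u) ≫ μ[G]) p p) : IsCosetMap u p := fun T a b => by
  constructor
  · intro e
    refine ⟨hsq.lift a b e ≫ snd G H, ?_⟩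
    conv_lhs => rw [← hsq.lift_snd a b e]
    rw [Hom.mul_def, ← Category.assoc]
    congr 1
    apply CartesianMonoidalCategory.hom_ext
    · simp
    · simp
  · rintro ⟨h, rfl⟩
    have := congrArg (lift a h ≫ ·) hsq.w
    simpa [Hom.mul_def, lift_whiskerLeft] using this

variable {u : H ⟶ G} {p : G ⟶ Q}

/-- The multiplication of the quotient. -/
theorem exists_mul (hp : Covers p.left) (hc : IsCosetMap u p) (hn : AlgGrp.IsNormalHom u) :
    ∃ m : Q ⊗ Q ⟶ Q, (p ⊗ₘ p) ≫ m = μ[G] ≫ p := by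
  obtain ⟨m₁, hm₁, -⟩ := (covers_whiskerRight hp G).over_desc (μ[G] ≫ p) fun T a b e => by
    have e1 : (a ≫ fst G G) ≫ p = (b ≫ fst G G) ≫ p := by
      simpa using congrArg (· ≫ fst Q G) e
    have e2 : a ≫ snd G G = b ≫ snd G G := by simpa using congrArg (· ≫ snd Q G) e
    have ha : a ≫ μ[G] = (a ≫ fst G G) * (a ≫ snd G G) := by rw [Hom.mul_def, ← comp_lift, lift_fst_snd, Category.comp_id]
    have hb : b ≫ μ[G] = (b ≫ fst G G) * (b ≫ snd G G) := by rw [Hom.mul_def, ← comp_lift, lift_fst_snd, Category.comp_id]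
    rw [← Category.assoc, ← Category.assoc, ha, hb]
    obtain ⟨h, hh⟩ := (hc T _ _).mp e1
    obtain ⟨h', hh'⟩ := hn T (a ≫ snd G G)⁻¹ h
    refine (hc T _ _).mpr ⟨h', ?_⟩
    rw [hh, ← e2, ← hh']
    group
  have hfac : ∀ (T : Over S) (x y : T ⟶ G), lift (x ≫ p) y ≫ m₁ = (x * y) ≫ p := fun T x y => by
    rw [Hom.mul_def, Category.assoc, ← hm₁, lift_whiskerRight_assoc]
  obtain ⟨m, hm, -⟩ := (covers_whiskerLeft hp Q).over_desc m₁ fun T a b e => by
    have e1 : a ≫ fst Q G = b ≫ fst Q G := by simpa using congrArg (· ≫ fst Q Q) e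
    have e2 : (a ≫ snd Q G) ≫ p = (b ≫ snd Q G) ≫ p := by simpa using congrArg (· ≫ snd Q Q) e
    obtain ⟨h, hh⟩ := (hc T _ _).mp e2
    -- lift the first coordinate to `G`
    let c : T ⟶ Q := a ≫ fst Q G
    have hc' : Covers (pullback.fst c.left p.left) :=
      hp.pullback c.left _ _ (IsPullback.of_hasPullback _ _)
    let T' : Over S := Over.mk (pullback.fst c.left p.left ≫ T.hom)
    let π : T' ⟶ T := Over.homMk (pullback.fst c.left p.left) rfl
    let l : T' ⟶ G := Over.homMk (pullback.snd c.left p.left) (by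
      show pullback.snd _ _ ≫ G.hom = pullback.fst _ _ ≫ T.hom
      rw [← Over.w p, ← pullback.condition_assoc, Over.w c])
    have hl : l ≫ p = π ≫ c := Over.OverMorphism.ext pullback.condition.symm
    have : Epi π := Covers.over_epi (p := π) hc'
    rw [← cancel_epi π]
    have hx : ∀ x : T ⟶ Q ⊗ G, x ≫ fst Q G = c → π ≫ x ≫ m₁ = (l * (π ≫ x ≫ snd Q G)) ≫ p := fun x hxc => by
      rw [← hfac, hl, ← hxc, ← comp_lift, ← comp_lift, lift_fst_snd, Category.comp_id, Category.assoc]
    rw [hx a rfl, hx b e1.symm]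
    refine (hc T' _ _).mpr ⟨π ≫ h, ?_⟩
    rw [_root_.mul_assoc, hh, MonObj.comp_mul, Category.assoc]
  refine ⟨m, ?_⟩
  rw [← hm₁, ← hm]
  simp [tensorHom_def]

/-- The quotient of a group by a normal subgroup is a group. -/
theorem exists_grpObj [IsMonHom u] (hp : Covers p.left) (hc : IsCosetMap u p) (hn : AlgGrp.IsNormalHom u) :
    ∃ s : GrpObj Q, letI := s; IsMonHom p := by
  obtain ⟨m, hm⟩ := exists_mul hp hc hn
  have hm' : ∀ (T : Over S) (x y : T ⟶ G), lift (x ≫ p) (y ≫ p) ≫ m = (x * y) ≫ p := fun T x y => by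
    rw [Hom.mul_def, Category.assoc, ← hm, lift_map_assoc]
  obtain ⟨i, hi, -⟩ := hp.over_desc (ι[G] ≫ p) fun T a b e => by
    obtain ⟨h, hh⟩ := (hc T _ _).mp e
    obtain ⟨h', hh'⟩ := hn T a h⁻¹
    rw [← Category.assoc, ← Category.assoc, show a ≫ ι[G] = a⁻¹ from (Hom.inv_def a).symm,
      show b ≫ ι[G] = b⁻¹ from (Hom.inv_def b).symm]
    refine (hc T _ _).mpr ⟨h', ?_⟩
    rw [hh, ← hh', GrpObj.inv_comp]
    group
  have : Epi p := hp.over_epi
  have hepi : ∀ {A B : Over S} (f : A ⟶ B), Covers f.left → Epi f := fun f h => h.over_epi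
  let s : GrpObj Q :=
    { one := η[G] ≫ p
      mul := m
      one_mul := by
        have : Epi (𝟙_ (Over S) ◁ p) := hepi _ (covers_whiskerLeft hp _)
        rw [← cancel_epi (𝟙_ (Over S) ◁ p), leftUnitor_naturality, whisker_exchange_assoc,
          comp_whiskerRight, Category.assoc, ← tensorHom_def_assoc, hm, ← Category.assoc, MonObj.one_mul]
      mul_one := by
        have : Epi (p ▷ 𝟙_ (Over S)) := hepi _ (covers_whiskerRight hp _)
        rw [← cancel_epi (p ▷ 𝟙_ (Over S)), rightUnitor_naturality, ← whisker_exchange_assoc,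
          MonoidalCategory.whiskerLeft_comp, Category.assoc, ← tensorHom_def'_assoc, hm, ← Category.assoc, MonObj.mul_one]
      mul_assoc := by
        have h1 : Epi ((p ▷ G) ▷ G) := hepi _ ((covers_whiskerRight hp G).over_pullback _ _ _ (isPullback_whiskerRight (p ▷ G) G))
        have h2 : Epi ((Q ◁ p) ▷ G) := hepi _ ((covers_whiskerLeft hp Q).over_pullback _ _ _ (isPullback_whiskerRight (Q ◁ p) G))
        have h3 : Epi ((Q ⊗ Q) ◁ p) := hepi _ (covers_whiskerLeft hp _)
        rw [← cancel_epi ((Q ⊗ Q) ◁ p), ← cancel_epi ((Q ◁ p) ▷ G), ← cancel_epi ((p ▷ G) ▷ G)]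
        let a : (G ⊗ G) ⊗ G ⟶ G := fst _ _ ≫ fst _ _
        let b : (G ⊗ G) ⊗ G ⟶ G := fst _ _ ≫ snd _ _
        let c : (G ⊗ G) ⊗ G ⟶ G := snd _ _
        have key : ((p ▷ G) ▷ G) ≫ ((Q ◁ p) ▷ G) ≫ ((Q ⊗ Q) ◁ p) =
            lift (lift (a ≫ p) (b ≫ p)) (c ≫ p) := by
          ext1
          · ext1 <;> simp [a, b]
          · simp [c]
        rw [reassoc_of% key, reassoc_of% key, lift_whiskerRight_assoc, lift_lift_associator_hom_assoc,
          lift_whiskerLeft_assoc, hm', hm', hm', hm', _root_.mul_assoc]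
      inv := i
      left_inv := by
        have hh : lift i (𝟙 Q) ≫ m = toUnit Q ≫ η[G] ≫ p := by
          rw [← cancel_epi p, comp_lift_assoc, hi, Category.comp_id, comp_toUnit_assoc]
          have := hm' G ι[G] (𝟙 G)
          rw [Category.id_comp] at this
          rw [this, ← Category.assoc, ← Hom.one_def]
          congr 1
          rw [Hom.mul_def, GrpObj.left_inv]
          rfl
        exact hh
      right_inv := by
        have hh : lift (𝟙 Q) i ≫ m = toUnit Q ≫ η[G] ≫ p := by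
          rw [← cancel_epi p, comp_lift_assoc, hi, Category.comp_id, comp_toUnit_assoc]
          have := hm' G (𝟙 G) ι[G]
          rw [Category.id_comp] at this
          rw [this, ← Category.assoc, ← Hom.one_def]
          congr 1
          rw [Hom.mul_def, GrpObj.right_inv]
          rfl
        exact hh }
  exact ⟨s, letI := s; ⟨rfl, hm.symm⟩⟩

/-- The group structure making a covering a homomorphism is unique. -/
theorem grpObj_ext (hp : Covers p.left) (s t : GrpObj Q)
    (hs : letI := s; IsMonHom p) (ht : letI := t; IsMonHom p) : s = t := by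
  refine GrpObj.ext s t ?_
  refine MonObj.ext _ _ ?_
  have h1 : Epi (p ▷ G) := (covers_whiskerRight hp G).over_epi
  have h2 : Epi (Q ◁ p) := (covers_whiskerLeft hp Q).over_epi
  have : Epi (p ⊗ₘ p) := by rw [tensorHom_def]; exact epi_comp _ _
  rw [← cancel_epi (p ⊗ₘ p)]
  exact (letI := s; (IsMonHom.mul_hom p).symm).trans (letI := t; IsMonHom.mul_hom p)

/-- The universal property of the quotient. -/
theorem exists_unique_hom [GrpObj Q] [IsMonHom p] (hp : Covers p.left) (hc : IsCosetMap u p)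
    {K : Over S} [GrpObj K] (f : G ⟶ K) [IsMonHom f] (hf : u ≫ f = 1) :
    ∃! g : Q ⟶ K, p ≫ g = f ∧ IsMonHom g := by
  obtain ⟨g, hg, hu⟩ := hp.over_desc f fun T a b e => by
    obtain ⟨h, rfl⟩ := (hc T _ _).mp e
    rw [MonObj.mul_comp, Category.assoc, hf, MonObj.comp_one, _root_.mul_one]
  refine ⟨g, ⟨hg, ⟨?_, ?_⟩⟩, fun g' h => hu g' h.1⟩
  · rw [← IsMonHom.one_hom p, Category.assoc, hg, IsMonHom.one_hom f]
  · have h1 : Epi (p ▷ G) := (covers_whiskerRight hp G).over_epi
    have h2 : Epi (Q ◁ p) := (covers_whiskerLeft hp Q).over_epi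
    have : Epi (p ⊗ₘ p) := by rw [tensorHom_def]; exact epi_comp _ _
    rw [← cancel_epi (p ⊗ₘ p), ← Category.assoc, ← IsMonHom.mul_hom p, Category.assoc, hg,
      IsMonHom.mul_hom f, tensorHom_comp_tensorHom_assoc, hg]

end Groth.Agent.FpqcDescLib
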