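import Groth.Agent.FpqcDescLib.Closed
import Mathlib.AlgebraicGeometry.Morphisms.Immersion

/-!
# The diagonal of the target of a covering
-/

open CategoryTheory Limits MonoidalCategory CartesianMonoidalCategory AlgebraicGeometry

universe u

namespace Groth.Agent.FpqcDescLib

variable {S : Scheme.{u}} {X Y P : Over S}

/-- The diagonal over the base. -/
noncomputable abbrev diag (Y : Over S) : Y ⟶ Y ⊗ Y := lift (𝟙 Y) (𝟙 Y)

theorem isImmersion_diag (Y : Over S) : IsImmersion (diag Y).left := by
  have : IsImmersion ((diag Y).left ≫ (fst Y Y).left) := by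
    rw [← Over.comp_left, lift_fst, Over.id_left]; infer_instance
  exact IsImmersion.of_comp (diag Y).left (fst Y Y).left

theorem isClosedImmersion_diag_iff (Y : Over S) :
    IsClosedImmersion (diag Y).left ↔ IsSeparated Y.hom := by
  constructor
  · intro h
    refine (isSeparated_iff Y.hom).mpr ?_
    have e : (diag Y).left = pullback.diagonal Y.hom := pullback.hom_ext
      (by rw [pullback.diagonal_fst]; exact congrArg CommaMorphism.left (lift_fst (𝟙 Y) (𝟙 Y)))
      (by rw [pullback.diagonal_snd]; exact congrArg CommaMorphism.left (lift_snd (𝟙 Y) (𝟙 Y)))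
    exact e ▸ h
  · intro h
    have : IsSeparated (fst Y Y).left := inferInstanceAs (IsSeparated (pullback.fst Y.hom Y.hom))
    have : IsClosedImmersion ((diag Y).left ≫ (fst Y Y).left) := by
      rw [← Over.comp_left, lift_fst, Over.id_left]; infer_instance
    exact IsClosedImmersion.of_comp (diag Y).left (fst Y Y).left

/-- The graph of the equivalence relation of a map is the pullback of the diagonal. -/
theorem isPullback_diag {a b : P ⟶ X} {p : X ⟶ Y} (h : IsPullback a b p p) :
    IsPullback (a ≫ p) (lift a b) (diag Y) (p ⊗ₘ p) := by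
  refine IsPullback.of_isLimit' ⟨by simp [h.w]⟩ (PullbackCone.IsLimit.mk _
    (fun s => h.lift (s.snd ≫ fst X X) (s.snd ≫ snd X X) ?_) ?_ ?_ fun s m h1 h2 => ?_)
  · have e1 := congrArg (· ≫ fst Y Y) s.condition
    have e2 := congrArg (· ≫ snd Y Y) s.condition
    simp at e1 e2
    simp [← e1, ← e2]
  · intro s
    have e1 := congrArg (· ≫ fst Y Y) s.condition
    simp at e1
    simp [e1]
  · intro s
    apply CartesianMonoidalCategory.hom_ext <;> simp
  · apply h.hom_ext
    · simpa using congrArg (· ≫ fst X X) h2
    · simpa using congrArg (· ≫ snd X X) h2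

theorem isImmersion_graph {a b : P ⟶ X} {p : X ⟶ Y} (h : IsPullback a b p p) :
    IsImmersion (lift a b).left :=
  MorphismProperty.of_isPullback (P := @IsImmersion) ((isPullback_diag h).map (Over.forget S))
    (isImmersion_diag Y)

theorem isClosedImmersion_graph {a b : P ⟶ X} {p : X ⟶ Y} (h : IsPullback a b p p) [IsSeparated Y.hom] :
    IsClosedImmersion (lift a b).left :=
  MorphismProperty.of_isPullback (P := @IsClosedImmersion) ((isPullback_diag h).map (Over.forget S))
    ((isClosedImmersion_diag_iff Y).mpr ‹_›)

theorem isSeparated_of_isClosedImmersion_graph {a b : P ⟶ X} {p : X ⟶ Y} (hp : Covers p.left)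
    (h : IsPullback a b p p) [IsClosedImmersion (lift a b).left] : IsSeparated Y.hom := by
  refine (isClosedImmersion_diag_iff Y).mp ?_
  have hpp : Covers (p ⊗ₘ p).left := by
    rw [tensorHom_def, Over.comp_left]
    exact (covers_whiskerRight hp X).comp (covers_whiskerLeft hp Y)
  exact @Covers.isClosedImmersion _ _ _ hpp _ _ _ (lift a b).left _ ((isPullback_diag h).map (Over.forget S)).flip ‹_›

end Groth.Agent.FpqcDescLib
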